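import Cfsg.Agent.Fus.NormalCentralizer.Closed
import Cfsg.Agent.Fus.PPowerExist.Exists
import Cfsg.Agent.Fus.PPowerExist.Normal
import Cfsg.Agent.Fus.PPrimeExist.Invariant
import Cfsg.Agent.FusMinimal.CentralizerSystem
import Cfsg.Agent.Eq.Def_FusionSystem

/-!
The normal subsystem over the centralizer of a normal subsystem: the subsystem of `p`-power index
of `C_F(T)` over `C_S(E)` is normal in the whole system.
-/

set_option autoImplicit false

namespace CfsgLib.NormalCent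

open Cfsg Cfsg.FusionSystem CfsgLib.Fus CfsgLib.Fusion.Alperin

variable {Ω : Type*} [Group Ω] {S T : Subgroup Ω} {F : Cfsg.FusionSystem S}

/-- A map centralizing `T`, read as a function. -/
theorem exists_mor_of_mem_centralizerHom {P : Subgroup Ω} {φ : P →* Ω}
    (hφ : φ ∈ F.centralizerHom T P) :
    ∃ f, Mor F (P ⊔ T) f ∧ (∀ x : P, f x = φ x) ∧ ∀ t ∈ T, f t = t := by
  obtain ⟨-, -, -, ψ, hψ, hψP, hψT⟩ := hφ
  obtain ⟨f, hf, hfe⟩ := exists_mor hψ
  exact ⟨f, hf, fun x => (hfe (Subgroup.inclusion le_sup_left x)).trans (hψP x),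
    fun t ht => (hfe (Subgroup.inclusion le_sup_right ⟨t, ht⟩)).trans (hψT ⟨t, ht⟩)⟩

/-- A function fixing `T` gives a map centralizing `T`. -/
theorem mem_centralizerHom_of_mor {P : Subgroup Ω} {φ : P →* Ω} {f : Ω → Ω}
    (hf : Mor F (P ⊔ T) f) (hP : P ≤ centralizerIn S T) (hC : ∀ x : P, φ x ∈ centralizerIn S T)
    (he : ∀ x : P, f x = φ x) (hT : ∀ t ∈ T, f t = t) : φ ∈ F.centralizerHom T P := by
  obtain ⟨ψ, hψ, e⟩ := hf
  exact ⟨hom_restrict F hψ le_sup_left fun x => ((e _).trans (he x)).symm, hP, hC, ψ, hψ,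
    fun x => (e _).trans (he x), fun t => (e _).trans (hT t t.2)⟩

/-- A map fixing the strongly closed `T` carries `C_S(T)` into itself. -/
theorem map_centralizer_of_fix {N : Subgroup Ω} {f : Ω → Ω} (hf : Mor F N f) (hTN : T ≤ N)
    (hT : ∀ t ∈ T, f t = t) {c : Ω} (hcN : c ∈ N) (hc : c ∈ centralizerIn S T) :
    f c ∈ centralizerIn S T := by
  refine ⟨hf.mem hcN, fun t ht => ?_⟩
  rw [← hT t ht, ← hf.map_mul (hTN ht) hcN, ← hf.map_mul hcN (hTN ht), hc.2 t ht]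

variable [Finite S] {p : ℕ} [Fact p.Prime]

/-- The subgroup `T` is receptive. -/
theorem receptive_of_stronglyClosed (hS : IsPGroup p S) (hF : F.IsSaturated p)
    (hT : F.StronglyClosed T) : F.IsReceptive T :=
  (fullyNormalized_props hS hF (CfsgLib.FusMinimal.isFullyNormalized_of_le_normalizer F hT.1
    (le_normalizer_of_stronglyClosed hT))).2

/-- A map between subgroups centralizing the strongly closed `T` extends to `T`, stabilizing it. -/
theorem exists_ext_T (hS : IsPGroup p S) (hF : F.IsSaturated p) (hT : F.StronglyClosed T)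
    {P : Subgroup Ω} {g : Ω → Ω} (hg : Mor F P g) (hP : P ≤ centralizerIn S T)
    (hgC : ∀ x ∈ P, g x ∈ centralizerIn S T) :
    ∃ f, Mor F (P ⊔ T) f ∧ (∀ x ∈ P, f x = g x) ∧ ∀ t ∈ T, f t ∈ T := by
  have : Finite T := finite_of_le hT.1
  obtain ⟨Q, hQ, hQS⟩ := hg.exists_img (le_refl P)
  have hTQ : T ≤ centralizerIn S Q := fun t ht => ⟨hT.1 ht, fun y hy => by
    have hy' : y ∈ g '' (P : Set Ω) := hQ ▸ hy
    obtain ⟨x, hx, rfl⟩ := hy'
    exact ((hgC x hx).2 t ht).symm⟩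
  have hTP : T ≤ centralizerIn S P := fun t ht => ⟨hT.1 ht, fun x hx => ((hP hx).2 t ht).symm⟩
  obtain ⟨R, hQR, hRfc⟩ := exists_fullyCentralized F hQS
  have hrec := receptive_of_fullyCentralized hS hF hRfc
  have hPR : F.IsConj P R := isConj_trans (hg.isConj hQ) hQR
  obtain ⟨h₀, hh₀, hh₀R⟩ := exists_mor_of_isConj hQR
  -- the extension from `P`
  obtain ⟨φ, hφ, e⟩ : Mor F P (h₀ ∘ g) := hg.comp hh₀ fun x hx => by
    show _ ∈ (Q : Set Ω)
    rw [← hQ]
    exact ⟨x, hx, rfl⟩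
  have hr : φ.range = R := SetLike.coe_injective (by
    rw [← hh₀R, ← hQ, ← Set.image_comp]
    ext y
    constructor
    · rintro ⟨x, rfl⟩; exact ⟨x, x.2, (e x).symm⟩
    · rintro ⟨x, hx, rfl⟩; exact ⟨⟨x, hx⟩, e _⟩)
  obtain ⟨ψ, hψ, hψe⟩ := exists_ext hrec hφ hr (N := P ⊔ T) le_sup_left
    (sup_le (le_extender F hφ) (hTP.trans centralizerIn_le_extender))
  obtain ⟨u, hu, hue⟩ := exists_mor hψ
  have huP : ∀ x ∈ P, u x = h₀ (g x) := fun x hx =>
    (hue (Subgroup.inclusion le_sup_left ⟨x, hx⟩)).trans ((hψe ⟨x, hx⟩).trans (e ⟨x, hx⟩))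
  -- the extension from `Q`
  obtain ⟨φ', hφ', e'⟩ := hh₀
  have hr' : φ'.range = R := SetLike.coe_injective (by
    rw [← hh₀R]
    ext y
    constructor
    · rintro ⟨x, rfl⟩; exact ⟨x, x.2, (e' x).symm⟩
    · rintro ⟨x, hx, rfl⟩; exact ⟨⟨x, hx⟩, e' _⟩)
  obtain ⟨ψ', hψ', hψe'⟩ := exists_ext hrec hφ' hr' (N := Q ⊔ T) le_sup_left
    (sup_le (le_extender F hφ') (hTQ.trans centralizerIn_le_extender))
  obtain ⟨h, hh, hhe⟩ := exists_mor hψ'
  have hhQ : ∀ y ∈ Q, h y = h₀ y := fun y hy =>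
    (hhe (Subgroup.inclusion le_sup_left ⟨y, hy⟩)).trans ((hψe' ⟨y, hy⟩).trans (e' ⟨y, hy⟩))
  have hTmap : ∀ {N : Subgroup Ω} {f : Ω → Ω}, Mor F N f → T ≤ N → ∀ t ∈ T, f t ∈ T := by
    intro N f hf hTN t ht
    obtain ⟨χ, hχ, ee⟩ := hf
    rw [← ee ⟨t, hTN ht⟩]
    exact map_mem_of_stronglyClosed hT hχ (x := ⟨t, hTN ht⟩) ht
  have hhT : h '' (T : Set Ω) = T :=
    image_eq (hh.restrict le_sup_right) (hTmap hh le_sup_right)
  obtain ⟨M, hM, -⟩ := hh.exists_img (le_refl (Q ⊔ T))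
  obtain ⟨v, hv, hvh, -, -⟩ := hh.exists_inv hM
  have hmemM : ∀ x ∈ P ⊔ T, u x ∈ M := fun x hx => by
    refine mem_of_sup hu le_rfl (fun y hy => ?_) (fun t ht => ?_) hx
    · show _ ∈ (M : Set Ω)
      have hgy : g y ∈ Q := show _ ∈ (Q : Set Ω) from hQ ▸ ⟨y, hy, rfl⟩
      rw [← hM, huP y hy, ← hhQ _ hgy]
      exact ⟨_, Subgroup.mem_sup_left hgy, rfl⟩
    · show _ ∈ (M : Set Ω)
      have h1 : u t ∈ h '' (T : Set Ω) := hhT.symm ▸ hTmap hu le_sup_right t ht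
      obtain ⟨t', ht', he⟩ := h1
      rw [← hM, ← he]
      exact ⟨t', Subgroup.mem_sup_right ht', rfl⟩
  refine ⟨v ∘ u, hu.comp hv hmemM, fun x hx => ?_, fun t ht => ?_⟩
  · have hgx : g x ∈ Q := show _ ∈ (Q : Set Ω) from hQ ▸ ⟨x, hx, rfl⟩
    show v (u x) = _
    rw [huP x hx, ← hhQ _ hgx, hvh _ (Subgroup.mem_sup_left hgx)]
  · obtain ⟨t', ht', he⟩ : u t ∈ h '' (T : Set Ω) := hhT.symm ▸ hTmap hu le_sup_right t ht
    show v (u t) ∈ T
    rw [← he, hvh _ (Subgroup.mem_sup_right ht')]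
    exact ht'

section Over

variable {Y : Subgroup Ω} {D : Cfsg.FusionSystem Y}

/-- The data: `Y` is strongly closed inside `C_S(T)` and `D` is of `p`-power index in `C_F(T)`. -/
structure Pack (F : Cfsg.FusionSystem S) (T Y : Subgroup Ω) (D : Cfsg.FusionSystem Y) (p : ℕ) :
    Prop where
  hS : IsPGroup p S
  hF : F.IsSaturated p
  hT : F.StronglyClosed T
  hY : F.StronglyClosed Y
  le : Y ≤ centralizerIn S T
  hD : D.IsSaturated p
  hidx : D.HasPPowerIndexIn (centralizerSystem F T hT.1) p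

namespace Pack

omit [Finite S] [Fact p.Prime] in
theorem sub (K : Pack F T Y D p) : ∀ P : Subgroup Ω, D.Hom P ⊆ F.centralizerHom T P :=
  K.hidx.1

omit [Finite S] [Fact p.Prime] in
theorem sub_F (K : Pack F T Y D p) : D.IsSubsystemOf F := fun P _ hφ => (K.sub P hφ).1

omit [Finite S] [Fact p.Prime] in
theorem autC_le (K : Pack F T Y D p) (R : Subgroup Ω) :
    (centralizerSystem F T K.hT.1).autGroup R ≤ F.autGroup R :=
  autGroup_mono (E := centralizerSystem F T K.hT.1) (F := F) (fun _ _ h => h.1) R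

omit [Finite S] [Fact p.Prime] in
/-- Coprime automorphisms of `C_F(T)` lie in `D`. -/
theorem mem_of_coprime (K : Pack F T Y D p) {R : Subgroup Ω} (hR : R ≤ Y) {a : MulAut R}
    (ha : a ∈ (centralizerSystem F T K.hT.1).autGroup R) (hco : (orderOf a).Coprime p) :
    a ∈ D.autGroup R :=
  K.hidx.2.2 R hR (LocalCharP.mem_map_pResidual ha hco)

omit [Finite S] [Fact p.Prime] in
theorem closed_mor (K : Pack F T Y D p) {N : Subgroup Ω} {f : Ω → Ω} (hf : Mor F N f) {y : Ω}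
    (hyN : y ∈ N) (hy : y ∈ Y) : f y ∈ Y := by
  obtain ⟨χ, hχ, e⟩ := hf
  rw [← e ⟨y, hyN⟩]
  exact map_mem_of_stronglyClosed K.hY hχ (x := ⟨y, hyN⟩) hy

theorem invariant_step (K : Pack F T Y D p) (P : Subgroup Ω) :
    D.Hom P ⊆ (PPrimeExist.invCore (PPrimeExist.onT F K.hY) D).Hom P := by
  have hS := K.hS
  have hYS : Y ≤ S := K.hY.1
  have : Finite Y := finite_of_le hYS
  have hTS := K.hT.1
  refine FusAut.hom_subset_of_pResidual (hS.to_le hYS) K.hD _ le_rfl (fun R hR => ?_) P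
  refine LocalCharP.map_pResidual_le_iff.2 fun γ hγ hco => ?_
  refine (mem_autGroup_iff _ hR).2 ⟨⟨hR, K.sub_F R ((mem_autGroup_iff D hR).1 hγ)⟩, fun β hβ => ?_⟩
  have hβF := (PPrimeExist.autGroup_onT K.hY).1 hβ
  have hbD : autHom β hR ∈ F.Hom R := (autHom_mem hβ hR).2
  have hbr := autHom_range β hR
  set γ' := MulAut.congr (isoOf hbD hbr) γ with hγ'
  have hR'Y : autImg β R ≤ Y := autImg_le β R
  have hγ'v : ∀ x : R, ((γ' (isoOf hbD hbr x) : autImg β R) : Ω) = autFun β (γ x : R) := fun x => by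
    show ((isoOf hbD hbr (γ ((isoOf hbD hbr).symm (isoOf hbD hbr x))) : autImg β R) : Ω) = _
    rw [MulEquiv.symm_apply_apply, isoOf_apply, autHom_apply]
  have hmem : γ' ∈ D.autGroup (autImg β R) := by
    refine K.mem_of_coprime hR'Y ?_ (by rw [hγ', MulEquiv.orderOf_eq]; exact hco)
    refine (mem_autGroup_iff _ (hR'Y.trans K.le)).2 ?_
    -- extend `β` to `T`
    obtain ⟨b, hb, hbe, -⟩ := exists_mor_of_aut hYS ⟨β, hβF⟩
    obtain ⟨B, hB, hBe, hBT⟩ := exists_ext_T hS K.hF K.hT hb K.le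
      fun x hx => K.le (hbe ⟨x, hx⟩ ▸ (β ⟨x, hx⟩).2)
    obtain ⟨f, hf, hfe, hfT⟩ :=
      exists_mor_of_mem_centralizerHom (K.sub R ((mem_autGroup_iff D hR).1 hγ))
    have : Finite T := finite_of_le hTS
    have hBT' : B '' (T : Set Ω) = T := image_eq (hB.restrict le_sup_right) hBT
    have hBR : ∀ x : R, B x = autFun β x := fun x => by
      rw [hBe x (hR x.2), hbe ⟨x, hR x.2⟩, autFun_apply β (hR x.2)]
    have hle : R ⊔ T ≤ Y ⊔ T := sup_le_sup_right hR T
    obtain ⟨M, hM, -⟩ := hB.exists_img hle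
    obtain ⟨B', hB', hB'B, -, hB'M⟩ := (hB.restrict hle).exists_inv hM
    have hM' : autImg β R ⊔ T ≤ M := by
      refine sup_le (fun y hy => ?_) (fun t ht => ?_)
      · obtain ⟨x, hx, rfl⟩ := (mem_autImg hR).1 hy
        show _ ∈ (M : Set Ω)
        rw [← hM]
        exact ⟨x, Subgroup.mem_sup_left hx, hBR ⟨x, hx⟩⟩
      · show _ ∈ (M : Set Ω)
        rw [← hM]
        have ht' : t ∈ B '' (T : Set Ω) := hBT'.symm ▸ ht
        obtain ⟨t', ht', rfl⟩ := ht'
        exact ⟨t', Subgroup.mem_sup_right ht', rfl⟩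
    have hB'mem : ∀ y ∈ autImg β R ⊔ T, B' y ∈ R ⊔ T := fun y hy => by
      show _ ∈ ((R ⊔ T : Subgroup Ω) : Set Ω)
      rw [← hB'M]
      exact ⟨y, hM' hy, rfl⟩
    have hfmem : ∀ y ∈ R ⊔ T, f y ∈ R ⊔ T := fun y hy => mem_of_sup hf le_rfl
      (fun x hx => Subgroup.mem_sup_left (hfe ⟨x, hx⟩ ▸ (γ ⟨x, hx⟩).2))
      (fun t ht => Subgroup.mem_sup_right (by rw [hfT t ht]; exact ht)) hy
    refine mem_centralizerHom_of_mor (f := B ∘ f ∘ B')
      (((hB'.restrict hM').comp hf hB'mem).comp hB fun y hy => hle (hfmem _ (hB'mem y hy)))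
      (hR'Y.trans K.le) (fun x => K.le (hR'Y (γ' x).2)) (fun y => ?_) (fun t ht => ?_)
    · obtain ⟨x, rfl⟩ := (isoOf hbD hbr).surjective y
      show B (f (B' _)) = ((γ' _ : autImg β R) : Ω)
      rw [hγ'v, isoOf_apply, autHom_apply, ← hBR x, hB'B _ (Subgroup.mem_sup_left x.2)]
      rw [show f (x : Ω) = ((γ x : R) : Ω) from hfe x, hBR]
    · have ht' : t ∈ B '' (T : Set Ω) := hBT'.symm ▸ ht
      obtain ⟨t', ht', rfl⟩ := ht'
      show B (f (B' (B t'))) = B t'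
      rw [hB'B _ (Subgroup.mem_sup_right ht'), hfT t' ht']
  refine ⟨_, (mem_autGroup_iff D hR'Y).1 hmem, fun x hx => ?_⟩
  show ((γ' ⟨autFun β x, hx⟩ : autImg β R) : Ω) = autFun β ((γ x : R) : Ω)
  rw [← hγ'v]
  congr 2
  exact Subtype.ext ((isoOf_apply hbD hbr x).trans (autHom_apply β hR x)).symm

/-- Every map of the system between subgroups of `Y` factors through `D`. -/
theorem frattini (K : Pack F T Y D p) (hDC : D.IsNormalIn (centralizerSystem F T K.hT.1) p)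
    {P : Subgroup Ω} (hP : P ≤ Y) {φ : P →* Ω} (hφ : φ ∈ F.Hom P) :
    ∃ α ∈ F.autGroup Y, ∃ φ₀ ∈ D.Hom P, ∀ (x : P) (hx : φ₀ x ∈ Y),
      φ x = ((α ⟨φ₀ x, hx⟩ : Y) : Ω) := by
  have hS := K.hS
  have hTS := K.hT.1
  have hYS := K.hY.1
  have : Finite T := finite_of_le hTS
  have : Finite Y := finite_of_le hYS
  obtain ⟨g, hg, hge⟩ := exists_mor hφ
  have hgY : ∀ x ∈ P, g x ∈ Y := fun x hx => K.closed_mor hg hx (hP hx)
  obtain ⟨f, hf, hfe, hfT⟩ :=
    exists_ext_T hS K.hF K.hT hg (hP.trans K.le) fun x hx => K.le (hgY x hx)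
  obtain ⟨⟨a, haF⟩, ha⟩ := exists_aut hf le_sup_right hfT
  set N := T ⊔ centralizerIn S T with hN
  have ham := (mem_autGroup_iff F hTS).1 haF
  obtain ⟨ψ, hψ, hψe⟩ := exists_ext (receptive_of_stronglyClosed hS K.hF K.hT) ham
    (range_subtype_comp a) (N := N) le_sup_left
    (sup_le (le_extender F ham) centralizerIn_le_extender)
  obtain ⟨b, hb, hbe⟩ := exists_mor hψ
  have hbT : ∀ t ∈ T, b t = f t := fun t ht =>
    (hbe (Subgroup.inclusion le_sup_left ⟨t, ht⟩)).trans ((hψe ⟨t, ht⟩).trans (ha ⟨t, ht⟩))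
  have hbT' : ∀ t ∈ T, b t ∈ T := fun t ht => by rw [hbT t ht]; exact hfT t ht
  have hbTT : b '' (T : Set Ω) = T := image_eq (hb.restrict le_sup_left) hbT'
  have hbC : ∀ c ∈ centralizerIn S T, b c ∈ centralizerIn S T := fun c hc =>
    map_centralizerIn hb le_sup_left hbTT (Subgroup.mem_sup_right hc) hc
  have : Finite N := finite_of_le hb.le
  obtain ⟨b', hb', hb'b, hbb', -⟩ := hb.exists_inv (image_eq hb fun x hx =>
    mem_of_sup hb le_rfl (fun t ht => Subgroup.mem_sup_left (hbT' t ht))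
      (fun c hc => Subgroup.mem_sup_right (hbC c hc)) hx)
  have hfN : ∀ x ∈ P ⊔ T, f x ∈ N := fun x hx => mem_of_sup hf le_rfl
    (fun y hy => Subgroup.mem_sup_right (K.le (by rw [hfe y hy]; exact hgY y hy)))
    (fun t ht => Subgroup.mem_sup_left (hfT t ht)) hx
  have hcmp := hf.comp hb' hfN
  have hb'Y : ∀ y ∈ Y, b' y ∈ Y := fun y hy =>
    K.closed_mor hb' (Subgroup.mem_sup_right (K.le hy)) hy
  obtain ⟨φ', hφ', e'⟩ := hcmp.restrict (le_sup_left : P ≤ P ⊔ T)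
  have hval : ∀ x : P, φ' x = b' (g x) := fun x => by
    rw [e' x]; show b' (f x) = _; rw [hfe x x.2]
  have hmem : φ' ∈ (centralizerSystem F T hTS).Hom P := by
    refine mem_centralizerHom_of_mor hcmp (hP.trans K.le) (fun x => ?_) (fun x => (e' x).symm)
      (fun t ht => ?_)
    · rw [hval]; exact K.le (hb'Y _ (hgY x x.2))
    · show b' (f t) = t
      rw [← hbT t ht, hb'b t (Subgroup.mem_sup_left ht)]
  obtain ⟨c, hc, φ₁, hφ₁, hfac⟩ := hDC.1.2.2.2.2.2 P hP φ' hmem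
  obtain ⟨⟨d, hd⟩, hde⟩ := exists_aut hb (K.le.trans le_sup_right) fun y hy =>
    K.closed_mor hb (Subgroup.mem_sup_right (K.le hy)) hy
  refine ⟨d * c, mul_mem hd (K.autC_le Y hc), φ₁, hφ₁, fun x hx => ?_⟩
  show φ x = ((d (c ⟨φ₁ x, hx⟩) : Y) : Ω)
  rw [hde, ← hfac x hx, hval, hbb' _ (Subgroup.mem_sup_right (K.le (hgY x x.2))), hge]

/-- A coprime automorphism of `D` on `Y` lifts. -/
theorem liftsQ_coprime (K : Pack F T Y D p)
    (hh : (centralizerSystem F T K.hT.1).hyperfocalSubgroup p ≤ Y) {γ : MulAut Y}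
    (hγ : γ ∈ (centralizerSystem F T K.hT.1).autGroup Y) (hco : (orderOf γ).Coprime p) :
    LiftsQ F Y γ := by
  have hS := K.hS
  have hTS := K.hT.1
  have hYS := K.hY.1
  have : Finite T := finite_of_le hTS
  have : Finite Y := finite_of_le hYS
  obtain ⟨f₀, hf₀, hf₀e, hf₀T⟩ :=
    exists_mor_of_mem_centralizerHom ((mem_autGroup_iff _ K.le).1 hγ)
  set N₀ := Y ⊔ T with hN₀
  have hm₀ := hf₀
  obtain ⟨φ₀, hφ₀, e₀⟩ := hf₀
  have hN₀S : N₀ ≤ S := sup_le hYS hTS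
  have hnorm : ∀ {s : Ω}, s ∈ S → ∀ x ∈ N₀, s * x * s⁻¹ ∈ N₀ := fun {s} hs x hx =>
    mem_of_sup (mor_conj (F := F) hN₀S hs) le_rfl
      (fun y hy => Subgroup.mem_sup_left (conj_mem_of_normalizer
        (le_normalizer_of_stronglyClosed K.hY hs) hy))
      (fun y hy => Subgroup.mem_sup_right (conj_mem_of_normalizer
        (le_normalizer_of_stronglyClosed K.hT hs) hy)) hx
  have hN₀n : S ≤ Subgroup.normalizer (N₀ : Set Ω) := fun s hs => by
    refine Subgroup.mem_normalizer_iff.2 fun x => ⟨hnorm hs x, fun hx => ?_⟩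
    have h1 := hnorm (S.inv_mem hs) _ hx
    convert h1 using 1
    group
  have hf₀' : ∀ x ∈ N₀, f₀ x ∈ N₀ := fun x hx => mem_of_sup hm₀ le_rfl
    (fun y hy => Subgroup.mem_sup_left (hf₀e ⟨y, hy⟩ ▸ (γ ⟨y, hy⟩).2))
    (fun t ht => Subgroup.mem_sup_right (by rw [hf₀T t ht]; exact ht)) hx
  have : Finite N₀ := finite_of_le hN₀S
  have hr₀ : φ₀.range = N₀ := by
    refine Subgroup.eq_of_le_of_card_ge ?_ (isConj_card (isConj_of_hom F hφ₀)).le
    rintro _ ⟨x, rfl⟩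
    rw [e₀]
    exact hf₀' x x.2
  have hCext : centralizerIn S Y ≤ extender S N₀ φ₀ := by
    intro c hc
    refine mem_extender_iff.2 ⟨hc.1, hN₀n hc.1, c, hc.1, fun x hx => ?_⟩
    obtain ⟨x, hxN⟩ := x
    rw [e₀, e₀]
    show f₀ (c * x * c⁻¹) = c * f₀ x * c⁻¹
    have hm : Mor F N₀ f₀ := ⟨φ₀, hφ₀, e₀⟩
    let L : Subgroup Ω :=
      { carrier := {z | z ∈ N₀ ∧ f₀ (c * z * c⁻¹) = c * f₀ z * c⁻¹}
        one_mem' := ⟨N₀.one_mem, by simp [map_one_of_mor hm]⟩
        mul_mem' := fun {a b} ha hb => ⟨N₀.mul_mem ha.1 hb.1, by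
          rw [show c * (a * b) * c⁻¹ = (c * a * c⁻¹) * (c * b * c⁻¹) by group,
            hm.map_mul (hnorm hc.1 a ha.1) (hnorm hc.1 b hb.1), ha.2, hb.2,
            hm.map_mul ha.1 hb.1]
          group⟩
        inv_mem' := fun {a} ha => ⟨N₀.inv_mem ha.1, by
          rw [show c * a⁻¹ * c⁻¹ = (c * a * c⁻¹)⁻¹ by group, hm.map_inv (hnorm hc.1 a ha.1),
            ha.2, hm.map_inv ha.1]
          group⟩ }
    refine ((sup_le (fun y hy => ⟨Subgroup.mem_sup_left hy, ?_⟩)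
      (fun t ht => ⟨Subgroup.mem_sup_right ht, ?_⟩) : N₀ ≤ L) hxN).2
    · have h1 : c * y * c⁻¹ = y := by rw [← hc.2 y hy]; group
      have h2 : f₀ y ∈ Y := hf₀e ⟨y, hy⟩ ▸ (γ ⟨y, hy⟩).2
      rw [h1, ← hc.2 _ h2, mul_inv_cancel_right]
    · rw [hf₀T t ht, hf₀T _ (conj_mem_of_normalizer
        (le_normalizer_of_stronglyClosed K.hT hc.1) ht)]
  set N := N₀ ⊔ centralizerIn S Y with hN
  obtain ⟨ψ, hψ, hψe⟩ := exists_ext
    (fullyNormalized_props hS K.hF
      (CfsgLib.FusMinimal.isFullyNormalized_of_le_normalizer F hN₀S hN₀n)).2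
    hφ₀ hr₀ (N := N) le_sup_left (sup_le (le_extender F hφ₀) hCext)
  obtain ⟨f₁, hf₁, hf₁e⟩ := exists_mor hψ
  have hf₁₀ : ∀ x ∈ N₀, f₁ x = f₀ x := fun x hx =>
    (hf₁e (Subgroup.inclusion le_sup_left ⟨x, hx⟩)).trans ((hψe ⟨x, hx⟩).trans (e₀ ⟨x, hx⟩))
  have hf₁Y : ∀ y : Y, f₁ y = ((γ y : Y) : Ω) := fun y =>
    (hf₁₀ y (Subgroup.mem_sup_left y.2)).trans (hf₀e y)
  have hf₁T : ∀ t ∈ T, f₁ t = t := fun t ht =>
    (hf₁₀ t (Subgroup.mem_sup_right ht)).trans (hf₀T t ht)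
  have hYN : Y ≤ N := le_sup_left.trans le_sup_left
  have hTN : T ≤ N := le_sup_right.trans le_sup_left
  have hYimg : f₁ '' (Y : Set Ω) = Y :=
    image_eq (hf₁.restrict hYN) fun y hy => hf₁Y ⟨y, hy⟩ ▸ (γ ⟨y, hy⟩).2
  have hf₁C : ∀ c ∈ centralizerIn S Y, f₁ c ∈ centralizerIn S Y := fun c hc =>
    map_centralizerIn hf₁ hYN hYimg (Subgroup.mem_sup_right hc) hc
  have hf₁N : ∀ x ∈ N, f₁ x ∈ N := fun x hx => mem_of_sup hf₁ le_rfl
    (fun y hy => Subgroup.mem_sup_left (hf₁₀ y hy ▸ hf₀' y hy))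
    (fun c hc => Subgroup.mem_sup_right (hf₁C c hc)) hx
  -- a power of period prime to `p`
  have : Finite N := finite_of_le hf₁.le
  have := finite_mulAut N
  have := finite_mulAut Y
  obtain ⟨⟨b, hbF⟩, hb⟩ := exists_aut hf₁ le_rfl hf₁N
  obtain ⟨k, n, -, hn, hbn, hk⟩ := exists_coprime_exponent b hco
  have hγk : γ ^ k = γ := hk γ rfl
  obtain ⟨hf, hfN⟩ := mor_iterate hf₁ hf₁N k
  set f := f₁^[k] with hfdef
  have hfY : ∀ y : Y, f y = ((γ y : Y) : Ω) := fun y => by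
    rw [hfdef, iterate_eq_aut hf₁Y k y, hγk]
  have hfT : ∀ t ∈ T, f t = t := fun t ht => Function.iterate_fixed (hf₁T t ht) k
  have hper : ∀ x ∈ N, f^[n] x = x := fun x hx => by
    rw [hfdef, ← Function.iterate_mul, iterate_eq_aut (fun z => (hb z).symm) _ ⟨x, hx⟩, pow_mul,
      hbn]
    rfl
  have hfYimg : f '' (Y : Set Ω) = Y :=
    image_eq (hf.restrict hYN) fun y hy => hfY ⟨y, hy⟩ ▸ (γ ⟨y, hy⟩).2
  have hfC : ∀ c ∈ centralizerIn S Y, f c ∈ centralizerIn S Y := fun c hc =>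
    map_centralizerIn hf hYN hfYimg (Subgroup.mem_sup_right hc) hc
  -- displacements on `Y (C_S(T) ∩ C_S(Y))`
  set M := Y ⊔ (centralizerIn S T ⊓ centralizerIn S Y) with hM
  have hMC : M ≤ centralizerIn S T := sup_le K.le inf_le_left
  have hMN : M ≤ N := sup_le hYN (inf_le_right.trans le_sup_right)
  have hfM : ∀ x ∈ M, f x ∈ M := fun x hx => mem_of_sup (hf.restrict hMN) le_rfl
    (fun y hy => Subgroup.mem_sup_left (hfY ⟨y, hy⟩ ▸ (γ ⟨y, hy⟩).2))
    (fun c hc => Subgroup.mem_sup_right (Subgroup.mem_inf.2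
      ⟨map_centralizer_of_fix hf hTN hfT (Subgroup.mem_sup_right hc.2) hc.1, hfC c hc.2⟩)) hx
  have : Finite M := finite_of_le hMN
  have := finite_mulAut M
  obtain ⟨⟨m, hmF⟩, hm⟩ := exists_aut hf hMN hfM
  have hmC : m ∈ (centralizerSystem F T hTS).autGroup M :=
    (mem_autGroup_iff _ hMC).2 (mem_centralizerHom_of_mor (hf.restrict (sup_le hMN hTN)) hMC
      (fun x => hMC (m x).2) (fun x => (hm x).symm) hfT)
  have hmco : (orderOf m).Coprime p := by
    refine hn.coprime_dvd_left (orderOf_dvd_of_pow_eq_one (MulEquiv.ext fun x => Subtype.ext ?_))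
    rw [← iterate_eq_aut (fun z => (hm z).symm) n x, hper x (hMN x.2)]
    rfl
  have hdisp : ∀ x ∈ M, x⁻¹ * f x ∈ Y := fun x hx => by
    have h := hh (FusAut.mem_hyperfocal _ hMC hmC hmco ⟨x, hx⟩)
    rw [Subgroup.coe_mul, Subgroup.coe_inv, hm] at h
    exact h
  refine ⟨f, hf.restrict (sup_le hYN le_sup_right), hfY, fun c hc => ?_⟩
  have hcN : c ∈ N := Subgroup.mem_sup_right hc
  set d := c⁻¹ * f c with hddef
  have hdY : d ∈ centralizerIn S Y :=
    Subgroup.mul_mem _ (Subgroup.inv_mem _ hc) (hfC c hc)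
  have hdT : d ∈ centralizerIn S T := by
    refine ⟨hdY.1, fun t ht => ?_⟩
    have hct : c * t * c⁻¹ ∈ T :=
      conj_mem_of_normalizer (le_normalizer_of_stronglyClosed K.hT hc.1) ht
    have h1 := hf.map_conj hcN (hTN ht)
    rw [hfT t ht, hfT _ hct] at h1
    calc t * d = c⁻¹ * (c * t * c⁻¹) * f c := by rw [hddef]; group
      _ = c⁻¹ * (f c * t * (f c)⁻¹) * f c := by rw [h1]
      _ = d * t := by rw [hddef]; group
  have hdM : d ∈ M := Subgroup.mem_sup_right (Subgroup.mem_inf.2 ⟨hdT, hdY⟩)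
  have hiter : ∀ i : ℕ, ∃ y ∈ Y, f^[i] c = c * d ^ i * y := by
    intro i
    induction i with
    | zero => exact ⟨1, Y.one_mem, by simp⟩
    | succ i ih =>
      obtain ⟨y, hy, he⟩ := ih
      set z := d⁻¹ * f d with hz
      have hzY : z ∈ Y := hdisp d hdM
      have hfd : f (d ^ i) = d ^ i * z ^ i := by
        have h1 : f (d ^ i) = (f d) ^ i := by
          clear he
          induction i with
          | zero => simp [map_one_of_mor hf]
          | succ j ihj => rw [pow_succ, hf.map_mul (hMN (M.pow_mem hdM j)) (hMN hdM), ihj, pow_succ]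
        rw [h1, show f d = d * z by rw [hz]; group, Commute.mul_pow ((hdY.2 z hzY).symm)]
      refine ⟨z ^ i * f y, Y.mul_mem (Y.pow_mem hzY i) (hfY ⟨y, hy⟩ ▸ (γ ⟨y, hy⟩).2), ?_⟩
      rw [Function.iterate_succ_apply', he,
        hf.map_mul (N.mul_mem hcN (hMN (M.pow_mem hdM i))) (hYN hy),
        hf.map_mul hcN (hMN (M.pow_mem hdM i)), hfd,
        show f c = c * d by rw [hddef]; group, pow_succ']
      group
  obtain ⟨y, hy, he⟩ := hiter n
  rw [hper c hcN, mul_assoc, left_eq_mul] at he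
  have hdn : d ^ n ∈ Y := eq_inv_of_mul_eq_one_left he ▸ Y.inv_mem hy
  have hdS : d ∈ S := hdY.1
  obtain ⟨r, hr⟩ := hS ⟨d, hdS⟩
  have hr' : d ^ p ^ r = 1 := congrArg Subtype.val hr
  have hcop : (orderOf d).Coprime n :=
    (Nat.Coprime.pow_left r hn.symm).coprime_dvd_left (orderOf_dvd_of_pow_eq_one hr')
  obtain ⟨j, hj⟩ := exists_pow_eq_self_of_coprime hcop.symm
  exact hj ▸ Y.pow_mem hdn j

theorem isNormalIn (K : Pack F T Y D p) (hDC : D.IsNormalIn (centralizerSystem F T K.hT.1) p)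
    (hh : (centralizerSystem F T K.hT.1).hyperfocalSubgroup p ≤ Y) : D.IsNormalIn F p := by
  have hYS := K.hY.1
  have : Finite Y := finite_of_le hYS
  have := finite_mulAut Y
  refine ⟨⟨K.hD, K.hF, K.sub_F, K.hY, fun P hP φ hφ a ha => ?_, fun P hP φ hφ =>
    K.frattini hDC hP hφ⟩, fun α hα => ?_⟩
  · obtain ⟨χ, hχ, hχe⟩ := (K.invariant_step P hφ).2 a ((PPrimeExist.autGroup_onT K.hY).2 ha)
    refine ⟨χ, hχ, fun x hφx hax => ?_⟩
    rw [← autFun_apply a hφx]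
    refine Eq.trans ?_ (hχe x (autFun_mem_autImg a hP x.2))
    congr 1
    exact Subtype.ext (autFun_apply a (hP x.2)).symm
  · let L : Subgroup (MulAut Y) :=
      { carrier := {a | LiftsQ F Y a}
        one_mem' := LiftsQ.one hYS
        mul_mem' := fun ha hb => ha.mul hb
        inv_mem' := fun {a} ha => by
          have h1 : a⁻¹ = a ^ (orderOf a - 1) := inv_eq_of_mul_eq_one_right (by
            rw [← pow_succ', Nat.sub_add_cancel (orderOf_pos a), pow_orderOf_eq_one])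
          rw [h1]
          exact LiftsQ.pow hYS ha _ }
    have hlift : α ∈ L :=
      ((FusAut.autGroup_le_sup
        (fullyNormalized_props (K.hS.to_le hYS) K.hD (isFullyNormalized_top D)).1).trans
      (sup_le (LocalCharP.map_pResidual_le_iff.2 fun γ hγ hco => K.liftsQ_coprime hh
        (autGroup_mono (fun P φ h => K.sub P h) Y hγ) hco) fun γ hγ => by
        obtain ⟨g, hg, hgx⟩ := mem_autInducedBy_iff.1 hγ
        refine ⟨fun x => g * x * g⁻¹, mor_conj (sup_le hYS (centralizerIn_le Y)) (hYS hg),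
          fun x => (hgx x).symm, fun c hc => ?_⟩
        show c⁻¹ * (g * c * g⁻¹) ∈ Y
        rw [hc.2 g hg, mul_inv_cancel_right, inv_mul_cancel]
        exact Y.one_mem)) hα
    obtain ⟨f, hf, hfY, hfc⟩ := hlift
    have hmaps := LiftsQ.mapsTo hf hfY hfc
    have : Finite (Y ⊔ centralizerIn S Y : Subgroup Ω) := finite_of_le hf.le
    have hYimg : f '' (Y : Set Ω) = Y :=
      image_eq (hf.restrict le_sup_left) fun y hy => hfY ⟨y, hy⟩ ▸ (α ⟨y, hy⟩).2
    obtain ⟨⟨β, hβF⟩, hβ⟩ := exists_aut hf le_rfl hmaps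
    refine ⟨β, hβF, fun x => (hβ _).trans (hfY x), fun c hc => ⟨?_, ?_⟩⟩
    · rw [hβ]; exact hfc c hc
    · rw [hβ]
      exact (Subgroup.mul_mem (centralizerIn S Y) (Subgroup.inv_mem _ hc)
        (map_centralizerIn hf le_sup_left hYimg c.2 hc)).2

end Pack

end Over

variable {E : Cfsg.FusionSystem T}

/-- The centralizer of a normal subsystem carries a normal subsystem centralizing `T`. -/
theorem exists_normal_over_cSub (hS : IsPGroup p S) (hE : E.IsNormalIn F p) :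
    ∃ D : Cfsg.FusionSystem (cSub F E p), D.IsNormalIn F p ∧
      ∀ P : Subgroup Ω, D.Hom P ⊆ F.centralizerHom T P := by
  have hF := hE.1.2.1
  have hT := closedT hE
  have hY := cSub_stronglyClosed hS hE
  have hCS : centralizerIn S T ≤ S := centralizerIn_le T
  have : Finite (centralizerIn S T) := finite_of_le hCS
  have hle : cSub F E p ≤ centralizerIn S T := cSub_le
  have hCsat := CfsgLib.FusMinimal.centralizerSystem_isSaturated hS hF
    (receptive_of_stronglyClosed hS hF hT)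
  have hfoc : (centralizerSystem F T hT.1).focalSubgroup ≤ cSub F E p := by
    refine (Subgroup.closure_le _).2 ?_
    rintro _ ⟨P, φ, x, hφ, rfl⟩
    exact displacement_mem_cSub hS hE hφ x
  have hh := (hyperfocalSubgroup_le_focal (p := p) _).trans hfoc
  obtain ⟨D, hD, hidx⟩ := PPowerExist.exists_pPowerIndex (hS.to_le hCS) _ hCsat hle hh
  have hYn : ((cSub F E p).subgroupOf (centralizerIn S T)).Normal :=
    ⟨fun x hx g => conj_mem_of_normalizer (le_normalizer_of_stronglyClosed hY (hCS g.2)) hx⟩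
  have hDC := PPowerExist.isNormalIn_of_pPowerIndex (hS.to_le hCS) hCsat hle hYn hh hD hidx
  exact ⟨D, Pack.isNormalIn ⟨hS, hF, hT, hY, hle, hD, hidx⟩ hDC hh, hidx.1⟩

end CfsgLib.NormalCent
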